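import Mathlib.Analysis.Complex.Polynomial.Basic
import Mathlib.LinearAlgebra.Eigenspace.Charpoly
import Mathlib.Analysis.Normed.Ring.InfiniteSum
import Mathlib.LinearAlgebra.Charpoly.Basic

/-!
# Traces of endomorphisms with bounded eigenvalues
-/

set_option autoImplicit false

universe u

namespace GrothLib.TraceSum25

theorem norm_trace_le {V : Type u} [AddCommGroup V] [Module ℂ V] [FiniteDimensional ℂ V]
    (f : V →ₗ[ℂ] V) {B : ℝ} (h : ∀ μ : ℂ, Module.End.HasEigenvalue f μ → ‖μ‖ ≤ B) :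
    ‖LinearMap.trace ℂ V f‖ ≤ (Module.finrank ℂ V : ℝ) * B := by
  have hsp : (LinearMap.charpoly f).Splits := IsAlgClosed.splits _
  rw [Module.End.trace_eq_sum_roots_charpoly_of_splits hsp]
  have hle : ∀ x ∈ (LinearMap.charpoly f).roots.map (fun μ => ‖μ‖), x ≤ B := by
    intro x hx
    obtain ⟨μ, hμ, rfl⟩ := Multiset.mem_map.1 hx
    exact h μ ((Module.End.hasEigenvalue_iff_isRoot_charpoly f μ).2
      (Polynomial.isRoot_of_mem_roots hμ))
  refine (norm_multiset_sum_le _).trans ?_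
  refine (Multiset.sum_le_card_nsmul _ _ hle).trans ?_
  rw [Multiset.card_map, nsmul_eq_mul, IsAlgClosed.card_roots_eq_natDegree,
    LinearMap.charpoly_natDegree]

theorem summable_norm_trace (E : ℕ → ℕ → Type u) [∀ p q, AddCommGroup (E p q)]
    [∀ p q, Module ℂ (E p q)] [∀ p q, FiniteDimensional ℂ (E p q)]
    (Φ : ∀ p q, E p q →ₗ[ℂ] E p q)
    (N : ℕ) (a c : ℕ → ℝ) (b d : ℕ → ℕ) (ha : ∀ q, 0 ≤ a q) (hc : ∀ p, 0 ≤ c p)
    (h1 : ∀ p q, N < q → Subsingleton (E p q))
    (h2 : ∀ p q (μ : ℂ), Module.End.HasEigenvalue (Φ p q) μ → ‖μ‖ ≤ a q * c p)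
    (h3 : ∀ p q, Module.finrank ℂ (E p q) ≤ b q * d p)
    (hsum : Summable fun p : ℕ => c p * (d p : ℝ)) :
    Summable fun pq : ℕ × ℕ => ‖LinearMap.trace ℂ (E pq.1 pq.2) (Φ pq.1 pq.2)‖ := by
  let g : ℕ → ℝ := fun q => if q ≤ N then a q * b q else 0
  have hg : ∀ q, 0 ≤ g q := fun q => by
    simp only [g]; split_ifs
    · exact mul_nonneg (ha q) (Nat.cast_nonneg _)
    · exact le_rfl
  have hgs : Summable g := summable_of_ne_finset_zero (s := Finset.range (N + 1)) fun q hq => by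
    simp only [Finset.mem_range] at hq
    simp only [g]
    rw [if_neg (by omega)]
  refine Summable.of_nonneg_of_le (fun _ => norm_nonneg _) (fun pq => ?_)
    (hsum.mul_of_nonneg hgs (fun p => mul_nonneg (hc p) (Nat.cast_nonneg _)) hg)
  obtain ⟨p, q⟩ := pq
  by_cases hq : q ≤ N
  · refine (norm_trace_le (Φ p q) (h2 p q)).trans ?_
    simp only [g, if_pos hq]
    calc (Module.finrank ℂ (E p q) : ℝ) * (a q * c p) ≤ ((b q : ℝ) * d p) * (a q * c p) :=
          mul_le_mul_of_nonneg_right (by exact_mod_cast h3 p q) (mul_nonneg (ha q) (hc p))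
      _ = c p * d p * (a q * b q) := by ring
  · have := h1 p q (by omega)
    rw [show Φ p q = 0 from Subsingleton.elim _ _, map_zero, norm_zero]
    exact mul_nonneg (mul_nonneg (hc p) (Nat.cast_nonneg _)) (hg q)

end GrothLib.TraceSum25
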